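import Mathlib
import Cfsg.Agent.Lib.Conj.RegularNilpotent
import Cfsg.Agent.Lib.Linear.Symplectic

/-! Regular unipotent elements of symplectic groups in odd characteristic. -/

set_option autoImplicit false

namespace CfsgLib.SympUnip

open Matrix CfsgLib.Conj

variable {F : Type*} [Field F] {m : ℕ}

/-- Square matrices of size `2m`. -/
abbrev SMat (m : ℕ) (F : Type*) := Matrix (Fin m ⊕ Fin m) (Fin m ⊕ Fin m) F

/-- The adjoint for the symplectic form. -/
def sadj (A : (SMat m F)) : (SMat m F) := -(J (Fin m) F * Aᵀ * J (Fin m) F)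

theorem sadj_mul (A B : (SMat m F)) : sadj (A * B) = sadj B * sadj A := by
  rw [sadj, sadj, sadj, neg_mul_neg, transpose_mul]
  have hJ := J_squared (Fin m) F
  calc -(J (Fin m) F * (Bᵀ * Aᵀ) * J (Fin m) F) =
      J (Fin m) F * Bᵀ * (J (Fin m) F * J (Fin m) F) * Aᵀ * J (Fin m) F := by
        rw [hJ]; simp [Matrix.mul_assoc]
    _ = J (Fin m) F * Bᵀ * J (Fin m) F * (J (Fin m) F * Aᵀ * J (Fin m) F) := by simp [Matrix.mul_assoc]

theorem sadj_one : sadj (1 : (SMat m F)) = 1 := by
  rw [sadj, transpose_one, mul_one, J_squared, neg_neg]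

theorem sadj_add (A B : (SMat m F)) : sadj (A + B) = sadj A + sadj B := by
  rw [sadj, sadj, sadj, transpose_add, mul_add, add_mul, neg_add]

theorem sadj_smul (c : F) (A : (SMat m F)) : sadj (c • A) = c • sadj A := by
  rw [sadj, sadj, transpose_smul, mul_smul_comm, smul_mul_assoc, smul_neg]

theorem sadj_sadj (A : (SMat m F)) : sadj (sadj A) = A := by
  rw [sadj, sadj, transpose_neg, transpose_mul, transpose_mul, transpose_transpose, J_transpose]
  have hJ := J_squared (Fin m) F
  calc _ = (J (Fin m) F * J (Fin m) F) * A * (J (Fin m) F * J (Fin m) F) := by simp [Matrix.mul_assoc]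
    _ = A := by rw [hJ]; simp

theorem mem_iff_sadj (A : (SMat m F)) : A ∈ symplecticGroup (Fin m) F ↔ sadj A * A = 1 := by
  have hJ := J_squared (Fin m) F
  rw [SymplecticGroup.mem_iff', sadj]
  constructor
  · intro h
    rw [neg_mul, Matrix.mul_assoc, Matrix.mul_assoc, ← Matrix.mul_assoc Aᵀ, h, hJ, neg_neg]
  · intro h
    calc Aᵀ * J (Fin m) F * A =
        J (Fin m) F * (-(J (Fin m) F * Aᵀ * J (Fin m) F) * A) := by
          rw [neg_mul, mul_neg, ← Matrix.mul_assoc, ← Matrix.mul_assoc, ← Matrix.mul_assoc, hJ]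
          simp [Matrix.mul_assoc]
      _ = J (Fin m) F := by rw [h, mul_one]

/-- A regular unipotent symplectic matrix. -/
structure IsRegUnip (u : (SMat m F)) : Prop where
  mem : u ∈ symplecticGroup (Fin m) F
  reg : IsRegNilp (u - 1)

/-- The centraliser algebra. -/
def commutant (N : (SMat m F)) : Subalgebra F (SMat m F) := Subalgebra.centralizer F {N}

theorem mem_commutant {N A : (SMat m F)} : A ∈ commutant N ↔ N * A = A * N := by
  simp [commutant, Subalgebra.mem_centralizer_iff]

variable {u : (SMat m F)}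

theorem IsRegUnip.sadj_mul_self (h : IsRegUnip u) : sadj u * u = 1 := (mem_iff_sadj u).mp h.mem

theorem IsRegUnip.self_mul_sadj (h : IsRegUnip u) : u * sadj u = 1 :=
  mul_eq_one_comm.mp h.sadj_mul_self

theorem IsRegUnip.sadj_mem (h : IsRegUnip u) {A : (SMat m F)} (hA : A ∈ commutant (u - 1)) :
    sadj A ∈ commutant (u - 1) := by
  rw [mem_commutant, sub_mul, mul_sub, one_mul, mul_one, sub_left_inj] at hA ⊢
  have h1 : sadj A * sadj u = sadj u * sadj A := by rw [← sadj_mul, hA, sadj_mul]
  calc u * sadj A = u * (sadj A * sadj u) * u := by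
        rw [mul_assoc, mul_assoc, h.sadj_mul_self, mul_one]
    _ = sadj A * u := by rw [h1, ← mul_assoc u, h.self_mul_sadj, one_mul]

theorem commutant_comm {N : (SMat m F)} (hN : IsRegNilp N) {A B : (SMat m F)} (hA : A ∈ commutant N) (hB : B ∈ commutant N) :
    A * B = B * A := by
  rw [mem_commutant] at hA hB
  obtain ⟨c, rfl⟩ := hN.exists_sum_of_commute (Commute.symm hA)
  exact (Commute.sum_left _ _ _ fun i _ => ((Commute.pow_left (show Commute N B from hB) _).smul_left _)).eq

section Count

variable (h : IsRegUnip u)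

theorem self_mem_commutant (u : (SMat m F)) : u ∈ commutant (u - 1) := by
  rw [mem_commutant, sub_mul, mul_sub, one_mul, mul_one]

theorem sub_one_mem_commutant (u : (SMat m F)) : u - 1 ∈ commutant (u - 1) := mem_commutant.mpr rfl

include h in
/-- The commutative ring structure on the centraliser algebra. -/
@[reducible] def IsRegUnip.commRing : CommRing (commutant (u - 1)) :=
  { (inferInstance : Ring (commutant (u - 1))) with
    mul_comm := fun x y => Subtype.ext (commutant_comm h.reg x.2 y.2) }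

include h in
/-- The adjoint as an endomorphism of the centraliser algebra. -/
def IsRegUnip.sigma : commutant (u - 1) →ₗ[F] commutant (u - 1) where
  toFun x := ⟨sadj x.1, h.sadj_mem x.2⟩
  map_add' x y := Subtype.ext (sadj_add _ _)
  map_smul' c x := Subtype.ext (sadj_smul _ _)

theorem IsRegUnip.sigma_coe (x : commutant (u - 1)) : (h.sigma x).1 = sadj x.1 := rfl

theorem IsRegUnip.sigma_sigma (x : commutant (u - 1)) : h.sigma (h.sigma x) = x :=
  Subtype.ext (sadj_sadj _)

theorem IsRegUnip.sigma_mul (x y : commutant (u - 1)) : h.sigma (x * y) = h.sigma x * h.sigma y :=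
  Subtype.ext (by
    show sadj (x.1 * y.1) = sadj x.1 * sadj y.1
    rw [sadj_mul, commutant_comm h.reg (h.sadj_mem y.2) (h.sadj_mem x.2)])

theorem IsRegUnip.sigma_one : h.sigma 1 = 1 := Subtype.ext sadj_one

theorem card_index : Fintype.card (Fin m ⊕ Fin m) = 2 * m := by
  rw [Fintype.card_sum, Fintype.card_fin]; ring

include h in
theorem IsRegUnip.one_le : 1 ≤ m := by
  have := h.reg.card_pos
  rw [card_index] at this
  omega

include h in
theorem IsRegUnip.finrank_commutant : Module.finrank F (commutant (u - 1)) = 2 * m := by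
  obtain ⟨v, hv⟩ := h.reg.exists_cyclic
  let ev : commutant (u - 1) →ₗ[F] (Fin m ⊕ Fin m → F) :=
    { toFun := fun x => x.1 *ᵥ v
      map_add' := fun x y => Matrix.add_mulVec _ _ _
      map_smul' := fun c x => Matrix.smul_mulVec c x.1 v }
  have hb : Function.Bijective ev := by
    refine ⟨fun x y hxy => Subtype.ext (h.reg.eq_of_commute_of_mulVec_eq hv (mem_commutant.mp x.2).symm
      (mem_commutant.mp y.2).symm hxy), fun w => ?_⟩
    obtain ⟨X, hX, hXv⟩ := h.reg.exists_commute_mulVec_eq hv w
    exact ⟨⟨X, mem_commutant.mpr hX.symm.eq⟩, hXv⟩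
  rw [(LinearEquiv.ofBijective ev hb).finrank_eq, Module.finrank_fintype_fun_eq_card, card_index]

/-- The non-units of the centraliser algebra. -/
def nonUnits (w : (SMat m F)) (v : Fin m ⊕ Fin m → F) : Submodule F (commutant (w - 1)) :=
  (LinearMap.range (Matrix.mulVecLin (w - 1))).comap
    ({ toFun := fun x => x.1 *ᵥ v
       map_add' := fun x y => Matrix.add_mulVec _ _ _
       map_smul' := fun c x => Matrix.smul_mulVec c x.1 v } : commutant (w - 1) →ₗ[F] (Fin m ⊕ Fin m → F))

theorem mem_nonUnits {w : (SMat m F)} {v : Fin m ⊕ Fin m → F} {x : commutant (w - 1)} :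
    x ∈ nonUnits w v ↔ x.1 *ᵥ v ∈ LinearMap.range (Matrix.mulVecLin (w - 1)) := Iff.rfl

theorem mul_mem_nonUnits {v : Fin m ⊕ Fin m → F} (x y : commutant (u - 1)) (hy : y ∈ nonUnits u v) :
    x * y ∈ nonUnits u v := by
  obtain ⟨w, hw⟩ := mem_nonUnits.mp hy
  rw [Matrix.mulVecLin_apply] at hw
  refine mem_nonUnits.mpr ⟨x.1 *ᵥ w, ?_⟩
  show Matrix.mulVecLin (u - 1) (x.1 *ᵥ w) = (x.1 * y.1) *ᵥ v
  rw [Matrix.mulVecLin_apply, Matrix.mulVec_mulVec, mem_commutant.mp x.2, ← Matrix.mulVec_mulVec,
    ← Matrix.mulVec_mulVec _ x.1, hw]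

include h in
theorem IsRegUnip.isUnit_iff {v : Fin m ⊕ Fin m → F} (hv : v ∉ LinearMap.range (u - 1).mulVecLin)
    (x : commutant (u - 1)) : IsUnit x ↔ x ∉ nonUnits u v := by
  constructor
  · rintro ⟨x, rfl⟩ hx
    have := mul_mem_nonUnits ((x⁻¹ : (commutant (u - 1))ˣ) : commutant (u - 1)) _ hx
    rw [Units.inv_mul] at this
    exact hv (by simpa [mem_nonUnits] using this)
  · intro hx
    obtain ⟨y, hy⟩ := h.reg.isUnit_of_commute (mem_commutant.mp x.2).symm hv hx
    have hy' : ((y⁻¹ : (SMat m F)ˣ) : (SMat m F)) ∈ commutant (u - 1) := mem_commutant.mpr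
      (Commute.units_inv_left (show Commute (y : (SMat m F)) (u - 1) by rw [hy]; exact (mem_commutant.mp x.2).symm)).symm.eq
    exact ⟨⟨x, ⟨_, hy'⟩, Subtype.ext (show x.1 * _ = 1 by rw [← hy, Units.mul_inv]),
      Subtype.ext (show _ * x.1 = 1 by rw [← hy, Units.inv_mul])⟩, rfl⟩

theorem IsRegUnip.isUnit_sigma {x : commutant (u - 1)} (hx : IsUnit x) : IsUnit (h.sigma x) := by
  obtain ⟨x, rfl⟩ := hx
  exact ⟨⟨h.sigma x, h.sigma x⁻¹.1, by rw [← h.sigma_mul, Units.mul_inv, h.sigma_one],
    by rw [← h.sigma_mul, Units.inv_mul, h.sigma_one]⟩, rfl⟩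

/-- The fixed space of the adjoint. -/
def IsRegUnip.fixSpace : Submodule F (commutant (u - 1)) := LinearMap.ker (h.sigma - 1)

theorem IsRegUnip.mem_fixSpace {x : commutant (u - 1)} : x ∈ h.fixSpace ↔ h.sigma x = x := by
  rw [IsRegUnip.fixSpace, LinearMap.mem_ker, LinearMap.sub_apply, Module.End.one_apply, sub_eq_zero]

variable (h2 : (2 : F) ≠ 0)

include h2 in
theorem IsRegUnip.finrank_fixSpace : Module.finrank F h.fixSpace = m := by
  obtain ⟨v, hv⟩ := h.reg.exists_cyclic
  set n := Fintype.card (Fin m ⊕ Fin m) with hn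
  have hn2 := card_index (m := m)
  set N := u - 1 with hN
  set P := LinearMap.ker (h.sigma + 1) with hP
  have hsum : h.fixSpace ⊔ P = ⊤ := Submodule.eq_top_iff'.mpr fun x => by
    refine Submodule.mem_sup.mpr ⟨(2 : F)⁻¹ • (x + h.sigma x), ?_, (2 : F)⁻¹ • (x - h.sigma x), ?_, ?_⟩
    · rw [h.mem_fixSpace, map_smul, map_add, h.sigma_sigma, add_comm]
    · rw [hP, LinearMap.mem_ker, LinearMap.add_apply, Module.End.one_apply, map_smul, map_sub, h.sigma_sigma,
        ← smul_add]
      simp
    · rw [← smul_add, show x + h.sigma x + (x - h.sigma x) = (2 : F) • x by module, smul_smul,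
        inv_mul_cancel₀ h2, one_smul]
  have hdis : h.fixSpace ⊓ P = ⊥ := eq_bot_iff.mpr fun x hx => by
    obtain ⟨hx1, hx2⟩ := hx
    rw [SetLike.mem_coe, h.mem_fixSpace] at hx1
    rw [hP, SetLike.mem_coe, LinearMap.mem_ker, LinearMap.add_apply, Module.End.one_apply, hx1,
      ← two_smul F] at hx2
    exact (smul_eq_zero.mp hx2).resolve_left h2
  have hdim : Module.finrank F h.fixSpace + Module.finrank F P = 2 * m := by
    have := Submodule.finrank_sup_add_finrank_inf_eq h.fixSpace P
    rw [hsum, hdis, finrank_top, finrank_bot, h.finrank_commutant, add_zero] at this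
    exact this.symm
  -- multiplication by `u - u⁻¹`
  let d : commutant N := ⟨u, self_mem_commutant u⟩ - h.sigma ⟨u, self_mem_commutant u⟩
  letI := h.commRing
  have hd : h.sigma d = -d := by rw [map_sub, h.sigma_sigma, neg_sub]
  let μ : commutant N →ₗ[F] commutant N := LinearMap.mulLeft F d
  have hμ : ∀ x, h.sigma (μ x) = -(μ (h.sigma x)) := fun x => by
    show h.sigma (d * x) = -(d * h.sigma x)
    rw [h.sigma_mul, hd, neg_mul]
  have hdN : ∀ x : commutant N, d * x = 0 → N * x.1 = 0 := fun x hx => by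
    have h1 : (u - sadj u) * x.1 = 0 := congrArg Subtype.val hx
    have h2u : IsUnit (u + 1) := by
      rw [show u + 1 = (2 : F) • (1 : (SMat m F)) + N by rw [hN, two_smul]; abel,
        Matrix.isUnit_iff_isUnit_det, det_smul_one_add_nilpotent ⟨_, h.reg.pow_card⟩]
      exact (IsUnit.mk0 _ h2).pow _
    apply h2u.mul_left_cancel
    rw [mul_zero, ← mul_assoc, show (u + 1) * N = u * (u - sadj u) by
      rw [hN, mul_sub u, h.self_mul_sadj, add_mul, mul_sub, mul_sub, one_mul, one_mul, mul_one]; abel,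
      mul_assoc, h1, mul_zero]
  -- the socle is skew
  let top : commutant N := ⟨N, sub_one_mem_commutant u⟩ ^ (n - 1)
  have htop : top.1 = N ^ (n - 1) := rfl
  have hNtop : N * N ^ (n - 1) = 0 := by rw [← pow_succ', Nat.sub_add_cancel h.reg.card_pos, h.reg.pow_card]
  have hker : ∀ x : commutant N, d * x = 0 → ∃ c : F, x = c • top := fun x hx => by
    have hx0 : N *ᵥ (x.1 *ᵥ v) = 0 := by rw [Matrix.mulVec_mulVec, hdN x hx, Matrix.zero_mulVec]
    have htv : top.1 *ᵥ v ∈ LinearMap.ker N.mulVecLin := by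
      rw [LinearMap.mem_ker, Matrix.mulVecLin_apply, Matrix.mulVec_mulVec, htop, hNtop, Matrix.zero_mulVec]
    have hne : top.1 *ᵥ v ≠ 0 := fun h0 => hv (by rw [h.reg.range_eq_ker]; exact h0)
    have hk : Module.finrank F (LinearMap.ker N.mulVecLin) = 1 := le_antisymm h.reg.finrank_ker_le_one
      (Module.finrank_pos_iff_exists_ne_zero.mpr ⟨⟨_, htv⟩, fun h0 => hne (congrArg Subtype.val h0)⟩)
    obtain ⟨c, hc⟩ := exists_smul_eq_of_finrank_eq_one hk (show (⟨_, htv⟩ : LinearMap.ker N.mulVecLin) ≠ 0 from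
      fun h0 => hne (congrArg Subtype.val h0)) ⟨x.1 *ᵥ v, hx0⟩
    refine ⟨c, Subtype.ext (h.reg.eq_of_commute_of_mulVec_eq hv (mem_commutant.mp x.2).symm
      (mem_commutant.mp (c • top).2).symm ?_)⟩
    rw [Subalgebra.coe_smul, Matrix.smul_mulVec]
    exact (congrArg Subtype.val hc).symm
  have hst : h.sigma top = -top := by
    refine Subtype.ext ?_
    rw [h.sigma_coe, htop, NegMemClass.coe_neg, htop]
    have hs : ∀ k, sadj (N ^ k) = ((-1 : F) ^ k) • (sadj u ^ k * N ^ k) := by
      have hsN : sadj N = (-1 : F) • (sadj u * N) := by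
        rw [hN, mul_sub, h.sadj_mul_self, mul_one, neg_one_smul, neg_sub, sadj, sadj, transpose_sub,
          transpose_one, mul_sub, sub_mul, mul_one, J_squared, neg_sub]
        abel
      intro k
      induction k with
      | zero => simp [sadj_one]
      | succ k ih =>
        have hc : Commute N (sadj u) := mem_commutant.mp (h.sadj_mem (self_mem_commutant u))
        rw [pow_succ' N, sadj_mul, ih, hsN, smul_mul_smul_comm, ← pow_succ, ← pow_succ']
        congr 1
        rw [pow_succ (sadj u), pow_succ N, mul_assoc, mul_assoc (sadj u ^ k) (sadj u),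
          ← mul_assoc (N ^ k) (sadj u), ((hc.pow_left k)).eq, mul_assoc (sadj u)]
    rw [hs, Odd.neg_one_pow ⟨m - 1, by have := h.one_le; omega⟩, neg_one_smul, neg_inj]
    have hfix : ∀ k, sadj u ^ k * N ^ (n - 1) = N ^ (n - 1) := by
      intro k
      induction k with
      | zero => simp
      | succ k ih =>
        rw [pow_succ, mul_assoc]
        have : sadj u * N ^ (n - 1) = N ^ (n - 1) := by
          conv_rhs => rw [← one_mul (N ^ (n - 1)), ← h.sadj_mul_self]
          rw [show u = 1 + N by rw [hN]; abel, mul_assoc, add_mul, one_mul, hNtop, add_zero]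
        rw [this, ih]
    exact hfix _
  have hle1 : Module.finrank F h.fixSpace ≤ Module.finrank F P := by
    let f : h.fixSpace →ₗ[F] P := LinearMap.codRestrict P (μ ∘ₗ h.fixSpace.subtype) fun x => by
      rw [hP, LinearMap.mem_ker, LinearMap.add_apply, Module.End.one_apply, LinearMap.comp_apply, hμ,
        Submodule.subtype_apply, h.mem_fixSpace.mp x.2, neg_add_cancel]
    refine LinearMap.finrank_le_finrank_of_injective (f := f) ((injective_iff_map_eq_zero f).mpr fun x hx => ?_)
    obtain ⟨c, hc⟩ := hker x.1 (congrArg Subtype.val hx)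
    have h3 := h.mem_fixSpace.mp x.2
    rw [hc, map_smul, hst, smul_neg] at h3
    have h4 : (2 : F) • (c • top) = 0 := by rw [two_smul]; nth_rewrite 1 [← h3]; exact neg_add_cancel _
    exact Subtype.ext (by rw [hc]; exact (smul_eq_zero.mp h4).resolve_left h2)
  have hle2 : Module.finrank F P ≤ Module.finrank F h.fixSpace + 1 := by
    let f : P →ₗ[F] h.fixSpace := LinearMap.codRestrict h.fixSpace (μ ∘ₗ P.subtype) fun x => by
      have hx : h.sigma x.1 = -x.1 := eq_neg_of_add_eq_zero_left (LinearMap.mem_ker.mp x.2)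
      rw [h.mem_fixSpace, LinearMap.comp_apply, hμ, Submodule.subtype_apply, hx, map_neg, neg_neg]
    have h1 := LinearMap.finrank_range_add_finrank_ker f
    have h3 := Submodule.finrank_le (LinearMap.range f)
    have h4 : Module.finrank F (LinearMap.ker f) ≤ 1 := by
      refine le_trans (LinearMap.finrank_le_finrank_of_injective
        (f := LinearMap.codRestrict (F ∙ top) (P.subtype ∘ₗ (LinearMap.ker f).subtype) fun x => ?_)
        fun a b hab => Subtype.ext (Subtype.ext (congrArg Subtype.val hab :))) ?_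
      · obtain ⟨c, hc⟩ := hker x.1.1 (congrArg Subtype.val (LinearMap.mem_ker.mp x.2))
        exact Submodule.mem_span_singleton.mpr ⟨c, hc.symm⟩
      · exact (finrank_span_le_card _).trans (by simp)
    omega
  omega

end Count

end CfsgLib.SympUnip
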