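import Mathlib
import Cfsg.Agent.Lib.SympUnip.Regular

/-! A regular unipotent symplectic matrix, by a Cayley transform. -/

set_option autoImplicit false

namespace CfsgLib.SympUnip

open Matrix CfsgLib.Conj

variable {F : Type*} [Field F] {m : ℕ}

/-- The subdiagonal shift. -/
def lowShift (m : ℕ) (F : Type*) [Field F] : Matrix (Fin m) (Fin m) F :=
  Matrix.of fun i j => if i.val = j.val + 1 then 1 else 0

/-- The last diagonal entry. -/
def lastUnit (m : ℕ) (F : Type*) [Field F] : Matrix (Fin m) (Fin m) F :=
  Matrix.diagonal fun i => if i.val + 1 = m then 1 else 0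

/-- A regular nilpotent element of the symplectic Lie algebra. -/
def regSkew (m : ℕ) (F : Type*) [Field F] : SMat m F :=
  fromBlocks (lowShift m F) 0 (lastUnit m F) (-(lowShift m F)ᵀ)

/-- The position of a basis vector in the chain. -/
def chainPos (m : ℕ) : Fin m ⊕ Fin m → ℕ := Sum.elim (fun i => i.val) (fun i => 2 * m - 1 - i.val)

theorem regSkew_entry (a b : Fin m ⊕ Fin m) (h : regSkew m F a b ≠ 0) :
    chainPos m a = chainPos m b + 1 := by
  rcases a with i | i <;> rcases b with j | j
  · simp [regSkew, lowShift] at h; simpa [chainPos] using h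
  · simp [regSkew] at h
  · simp [regSkew, lastUnit, Matrix.diagonal_apply] at h
    obtain ⟨rfl, h⟩ := h
    simp [chainPos]; omega
  · simp [regSkew, lowShift] at h
    have := j.2
    simp [chainPos]; omega

theorem regSkew_pow_entry (k : ℕ) : ∀ a b : Fin m ⊕ Fin m, (regSkew m F ^ k) a b ≠ 0 →
    chainPos m a = chainPos m b + k := by
  induction k with
  | zero =>
    intro a b h
    by_cases hab : a = b
    · rw [hab, add_zero]
    · simp [hab] at h
  | succ k ih =>
    intro a b h
    rw [pow_succ', Matrix.mul_apply] at h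
    obtain ⟨c, -, hc⟩ := Finset.exists_ne_zero_of_sum_ne_zero h
    have h1 := regSkew_entry a c (left_ne_zero_of_mul hc)
    have h2 := ih c b (right_ne_zero_of_mul hc)
    omega

theorem regSkew_pow_card : regSkew m F ^ Fintype.card (Fin m ⊕ Fin m) = 0 := by
  ext a b
  by_contra h
  have := regSkew_pow_entry _ a b h
  rw [card_index] at this
  have ha : chainPos m a < 2 * m := by
    rcases a with i | i <;> have := i.2 <;> simp [chainPos] <;> omega
  omega

theorem regSkew_regNilp (hm : 1 ≤ m) : IsRegNilp (regSkew m F) := by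
  refine ⟨regSkew_pow_card, ?_, by rw [card_index]; omega⟩
  rw [card_index]
  set K := regSkew m F with hK
  have hker : LinearMap.ker K.mulVecLin ≤ F ∙ (Pi.single (Sum.inr ⟨0, hm⟩) 1 : Fin m ⊕ Fin m → F) := by
    intro x hx
    rw [LinearMap.mem_ker, Matrix.mulVecLin_apply] at hx
    have hl : ∀ j : Fin m, x (Sum.inl j) = 0 := by
      intro j
      by_cases hj : j.val + 1 < m
      · have h1 := congrFun hx (Sum.inl ⟨j.val + 1, hj⟩)
        rw [Matrix.mulVec, dotProduct, Finset.sum_eq_single (Sum.inl j)] at h1
        · simpa [hK, regSkew, lowShift] using h1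
        · rintro (b | b) _ hb
          · have : ¬ (j.val = b.val) := fun h => hb (congrArg Sum.inl (Fin.ext h.symm))
            simp [hK, regSkew, lowShift, this]
          · simp [hK, regSkew]
        · simp
      · have h1 := congrFun hx (Sum.inr j)
        rw [Matrix.mulVec, dotProduct, Finset.sum_eq_single (Sum.inl j)] at h1
        · have := j.2
          simpa [hK, regSkew, lastUnit, show j.val + 1 = m by omega] using h1
        · rintro (b | b) _ hb
          · have : j ≠ b := fun h => hb (congrArg Sum.inl h.symm)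
            simp [hK, regSkew, lastUnit, Matrix.diagonal_apply_ne _ this]
          · have := j.2
            have := b.2
            have : ¬ (b.val = j.val + 1) := by omega
            simp [hK, regSkew, lowShift, this]
        · simp
    have hr : ∀ j : Fin m, 0 < j.val → x (Sum.inr j) = 0 := by
      intro j hj
      have h1 := congrFun hx (Sum.inr ⟨j.val - 1, by omega⟩)
      rw [Matrix.mulVec, dotProduct, Finset.sum_eq_single (Sum.inr j)] at h1
      · simpa [hK, regSkew, lowShift, show j.val - 1 + 1 = j.val by omega] using h1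
      · rintro (b | b) _ hb
        · simp [hl b]
        · have : ¬ (b.val = j.val - 1 + 1) := fun h => hb (congrArg Sum.inr (Fin.ext (by omega)))
          simp [hK, regSkew, lowShift, this]
      · simp
    refine Submodule.mem_span_singleton.mpr ⟨x (Sum.inr ⟨0, hm⟩), funext fun a => ?_⟩
    rcases a with a | a
    · simp [hl a]
    · by_cases ha : a.val = 0
      · rw [show a = ⟨0, hm⟩ from Fin.ext ha]; simp
      · have : a ≠ ⟨0, hm⟩ := fun h => ha (congrArg Fin.val h)
        simp [hr a (Nat.pos_of_ne_zero ha), this]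
  have h1 := Submodule.finrank_mono hker
  rw [finrank_span_singleton (by simp)] at h1
  have h2 := LinearMap.finrank_range_add_finrank_ker K.mulVecLin
  rw [Module.finrank_fintype_fun_eq_card, card_index] at h2
  have h3 : K.rank = Module.finrank F (LinearMap.range K.mulVecLin) := rfl
  have h4 : K.rank ≠ 2 * m := by
    intro h
    have hu : LinearMap.ker K.mulVecLin = ⊥ := Submodule.finrank_eq_zero.mp (by omega)
    have hinj : Function.Injective K.mulVecLin := LinearMap.ker_eq_bot.mp hu
    have : ∀ k, Function.Injective (K ^ k).mulVecLin := by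
      intro k
      induction k with
      | zero => simp [Function.Injective]
      | succ k ih => rw [pow_succ, Matrix.mulVecLin_mul]; exact ih.comp hinj
    have h5 := @this (Fintype.card (Fin m ⊕ Fin m)) (Pi.single (Sum.inr ⟨0, hm⟩) 1) 0
      (by rw [hK, regSkew_pow_card]; simp)
    simpa using congrFun h5 (Sum.inr ⟨0, hm⟩)
  omega

theorem sadj_regSkew : sadj (regSkew m F) = -regSkew m F := by
  rw [sadj, regSkew, fromBlocks_transpose, J, fromBlocks_multiply, fromBlocks_multiply, fromBlocks_neg,
    fromBlocks_neg, lastUnit, diagonal_transpose]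
  simp

/-- A regular unipotent symplectic matrix exists. -/
theorem exists_regUnip (hm : 1 ≤ m) (h2 : (2 : F) ≠ 0) : ∃ u : SMat m F, IsRegUnip u := by
  set K := regSkew m F with hK
  have hreg := regSkew_regNilp (F := F) hm
  have hnil : IsNilpotent K := ⟨_, hreg.pow_card⟩
  obtain ⟨P, hP⟩ : IsUnit (1 - K) := hnil.isUnit_one_sub
  have hc : Commute (1 + K) ((P⁻¹ : (SMat m F)ˣ) : SMat m F) := by
    refine Commute.units_inv_right ?_
    rw [hP]
    exact ((Commute.one_left _).sub_right (Commute.one_left _)).add_left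
      ((Commute.one_right _).sub_right (Commute.refl K))
  set u := (1 + K) * ((P⁻¹ : (SMat m F)ˣ) : SMat m F) with hu
  have hsplus : sadj (1 + K) = 1 - K := by rw [sadj_add, sadj_one, hK, sadj_regSkew, sub_eq_add_neg]
  have hmem : sadj u * u = 1 := by
    have h1 : sadj ((P⁻¹ : (SMat m F)ˣ) : SMat m F) * (1 + K) = 1 := by
      rw [show 1 + K = sadj (1 - K) by rw [← hsplus, sadj_sadj], ← sadj_mul, ← hP, Units.mul_inv, sadj_one]
    rw [hu, sadj_mul, hsplus, mul_assoc, ← mul_assoc (1 - K) (1 + K),
      show (1 - K) * (1 + K) = (1 + K) * (1 - K) by noncomm_ring, mul_assoc (1 + K), ← hP, Units.mul_inv,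
      mul_one, h1]
  refine ⟨u, (mem_iff_sadj u).mpr hmem, ?_⟩
  have hu1 : u - 1 = ((2 : F) • K) * ((P⁻¹ : (SMat m F)ˣ) : SMat m F) := by
    rw [hu, show (2 : F) • K = 1 + K - (P : SMat m F) by rw [hP, two_smul]; abel, sub_mul (1 + K) (P : SMat m F),
      Units.mul_inv]
  have hc2 : Commute ((2 : F) • K) ((P⁻¹ : (SMat m F)ˣ) : SMat m F) := by
    refine Commute.units_inv_right ?_
    rw [hP]
    exact ((Commute.one_right K).sub_right (Commute.refl K)).smul_left _
  refine ⟨by rw [hu1, hc2.mul_pow, smul_pow, hreg.pow_card, smul_zero, zero_mul], ?_, hreg.card_pos⟩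
  rw [hu1, Matrix.rank_mul_eq_left_of_isUnit_det _ _ ((Matrix.isUnit_iff_isUnit_det _).mp P⁻¹.isUnit), ← hreg.rank_eq,
    show (2 : F) • K = ((2 : F) • (1 : SMat m F)) * K by rw [smul_mul_assoc, one_mul],
    Matrix.rank_mul_eq_right_of_isUnit_det]
  rw [Matrix.det_smul, Matrix.det_one, mul_one]
  exact (IsUnit.mk0 _ h2).pow _

/-- A similitude with multiplier `c`. -/
def simMat (m : ℕ) {F : Type*} [Field F] (c : F) : SMat m F :=
  fromBlocks (c • 1) 0 0 1

theorem sadj_simMat (c : F) : sadj (simMat m c) * simMat m c = c • (1 : SMat m F) := by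
  rw [sadj, simMat, fromBlocks_transpose, J, fromBlocks_multiply, fromBlocks_multiply, fromBlocks_neg,
    fromBlocks_multiply, ← fromBlocks_one, fromBlocks_smul]
  simp

theorem isUnit_simMat {c : F} (hc : c ≠ 0) : IsUnit (simMat m c) := by
  refine ⟨⟨simMat m c, simMat m c⁻¹, ?_, ?_⟩, rfl⟩ <;>
    rw [simMat, simMat, fromBlocks_multiply] <;> simp [hc]

end CfsgLib.SympUnip
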