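import Mathlib
import Cfsg.Agent.Lib.SympUnip.Regular

/-! The norm `x ↦ x* x` on the centraliser algebra of a regular unipotent symplectic matrix. -/

set_option autoImplicit false

namespace CfsgLib.SympUnip

open Matrix CfsgLib.Conj

variable {F : Type*} [Field F] {m : ℕ} {u : SMat m F}

theorem IsRegUnip.isUnit_or (h : IsRegUnip u) (h2 : (2 : F) ≠ 0) (x : commutant (u - 1)) :
    IsUnit (x - 1) ∨ IsUnit (x + 1) := by
  obtain ⟨v, hv⟩ := h.reg.exists_cyclic
  by_contra hcon
  push Not at hcon
  rw [h.isUnit_iff hv, not_not, h.isUnit_iff hv, not_not] at hcon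
  have h1 := Submodule.sub_mem _ hcon.2 hcon.1
  rw [show x + 1 - (x - 1) = (2 : F) • (1 : commutant (u - 1)) by rw [two_smul]; abel] at h1
  have h3 := Submodule.smul_mem _ (2 : F)⁻¹ h1
  rw [smul_smul, inv_mul_cancel₀ h2, one_smul] at h3
  exact (h.isUnit_iff hv 1).mp isUnit_one h3

theorem IsRegUnip.exists_residue (h : IsRegUnip u) {v : Fin m ⊕ Fin m → F}
    (hv : v ∉ LinearMap.range (Matrix.mulVecLin (u - 1))) (y : commutant (u - 1)) :
    ∃ b : F, y - b • 1 ∈ nonUnits u v := by
  have hQ : Module.finrank F ((Fin m ⊕ Fin m → F) ⧸ LinearMap.range (Matrix.mulVecLin (u - 1))) = 1 := by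
    have h1 := Submodule.finrank_quotient_add_finrank (LinearMap.range (Matrix.mulVecLin (u - 1)))
    rw [Module.finrank_fintype_fun_eq_card,
      show Module.finrank F (LinearMap.range (Matrix.mulVecLin (u - 1))) = (u - 1).rank from rfl, h.reg.rank_eq] at h1
    have hp := h.reg.card_pos
    omega
  have hne : (Submodule.Quotient.mk v : (Fin m ⊕ Fin m → F) ⧸ LinearMap.range (Matrix.mulVecLin (u - 1))) ≠ 0 :=
    fun h0 => hv ((Submodule.Quotient.mk_eq_zero _).mp h0)
  obtain ⟨b, hb⟩ := exists_smul_eq_of_finrank_eq_one hQ hne (Submodule.Quotient.mk (y.1 *ᵥ v))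
  refine ⟨b, mem_nonUnits.mpr ?_⟩
  rw [← Submodule.Quotient.mk_smul] at hb
  have h2 := (Submodule.Quotient.eq _).mp hb.symm
  simpa [Matrix.sub_mulVec, Matrix.smul_mulVec] using h2

/-- Squaring residues: a non-square scalar is not a norm. -/
theorem IsRegUnip.smul_one_ne_norm (h : IsRegUnip u) {c : F} (hc : ¬ IsSquare c) (y : commutant (u - 1)) :
    h.sigma y * y ≠ c • 1 := by
  letI := h.commRing
  obtain ⟨v, hv⟩ := h.reg.exists_cyclic
  intro he
  have hI1 : (1 : commutant (u - 1)) ∉ nonUnits u v := (h.isUnit_iff hv 1).mp isUnit_one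
  obtain ⟨b, hb⟩ := h.exists_residue hv y
  have hσ : h.sigma (y - b • 1) ∈ nonUnits u v := by
    by_contra hno
    refine (h.isUnit_iff hv _).mp ?_ hb
    have := h.isUnit_sigma ((h.isUnit_iff hv _).mpr hno)
    rwa [h.sigma_sigma] at this
  have hmem : (c - b * b) • (1 : commutant (u - 1)) ∈ nonUnits u v := by
    have e : (c - b * b) • (1 : commutant (u - 1)) =
        b • (y - b • 1) + y * h.sigma (y - b • 1) := by
      rw [map_sub, map_smul, h.sigma_one, mul_sub, mul_comm y (h.sigma y), he, mul_smul_comm, mul_one,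
        smul_sub, smul_smul, sub_smul]
      abel
    rw [e]
    exact add_mem (Submodule.smul_mem _ _ hb) (mul_mem_nonUnits _ _ hσ)
  by_cases hcb : c - b * b = 0
  · exact hc ⟨b, sub_eq_zero.mp hcb⟩
  · have := Submodule.smul_mem _ (c - b * b)⁻¹ hmem
    rw [smul_smul, inv_mul_cancel₀ hcb, one_smul] at this
    exact hI1 this

/-- The adjoint as a monoid endomorphism. -/
def IsRegUnip.sigmaHom (h : IsRegUnip u) : commutant (u - 1) →* commutant (u - 1) where
  toFun := h.sigma
  map_one' := h.sigma_one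
  map_mul' := h.sigma_mul

/-- Units fixed by the adjoint. -/
def IsRegUnip.fixUnits (h : IsRegUnip u) : Subgroup (commutant (u - 1))ˣ :=
  MonoidHom.eqLocus (Units.map h.sigmaHom) (MonoidHom.id _)

theorem IsRegUnip.mem_fixUnits (h : IsRegUnip u) {x : (commutant (u - 1))ˣ} :
    x ∈ h.fixUnits ↔ h.sigma x.1 = x.1 := ⟨fun hx => congrArg Units.val hx, fun hx => Units.ext hx⟩

theorem IsRegUnip.card_units (h : IsRegUnip u) [Fintype F] :
    Nat.card (commutant (u - 1))ˣ = (Fintype.card F - 1) * Fintype.card F ^ (2 * m - 1) := by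
  rw [← card_index (m := m), ← h.reg.card_units_commute]
  refine Nat.card_congr
    { toFun := fun x => ⟨Units.map (commutant (u - 1)).val.toMonoidHom x, (mem_commutant.mp x.1.2).symm⟩
      invFun := fun g => ⟨⟨g.1.1, mem_commutant.mpr g.2.symm⟩, ⟨(g.1⁻¹ : (SMat m F)ˣ).1, mem_commutant.mpr
        (Commute.units_inv_left (show Commute (g.1 : SMat m F) (u - 1) from g.2)).symm.eq⟩,
        Subtype.ext g.1.mul_inv, Subtype.ext g.1.inv_mul⟩
      left_inv := fun x => Units.ext (Subtype.ext rfl)
      right_inv := fun g => Subtype.ext (Units.ext rfl) }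

theorem IsRegUnip.card_fixUnits (h : IsRegUnip u) (h2 : (2 : F) ≠ 0) [Fintype F] :
    Nat.card h.fixUnits = Fintype.card F ^ (m - 1) * (Fintype.card F - 1) := by
  classical
  obtain ⟨v, hv⟩ := h.reg.exists_cyclic
  set I := h.fixSpace ⊓ nonUnits u v with hI
  have e : h.fixUnits ≃ {x : h.fixSpace // x.1 ∉ nonUnits u v} :=
    { toFun := fun x => ⟨⟨x.1.1, h.mem_fixSpace.mpr (h.mem_fixUnits.mp x.2)⟩, (h.isUnit_iff hv _).mp x.1.isUnit⟩
      invFun := fun x => ⟨((h.isUnit_iff hv x.1.1).mpr x.2).unit, h.mem_fixUnits.mpr (h.mem_fixSpace.mp x.1.2)⟩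
      left_inv := fun x => Subtype.ext (Units.ext rfl)
      right_inv := fun x => Subtype.ext (Subtype.ext rfl) }
  have h1 : (1 : commutant (u - 1)) ∉ nonUnits u v := (h.isUnit_iff hv 1).mp isUnit_one
  have hone : (F ∙ (1 : commutant (u - 1))) ⊔ I = h.fixSpace := by
    refine le_antisymm (sup_le ((Submodule.span_singleton_le_iff_mem _ _).mpr (h.mem_fixSpace.mpr h.sigma_one))
      inf_le_left) fun x hx => ?_
    obtain ⟨b, hb⟩ := h.exists_residue hv x
    exact Submodule.mem_sup.mpr ⟨b • 1, Submodule.smul_mem _ b (Submodule.mem_span_singleton_self _), x - b • 1,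
      ⟨Submodule.sub_mem _ hx (Submodule.smul_mem _ b (h.mem_fixSpace.mpr h.sigma_one)), hb⟩, add_sub_cancel _ _⟩
  have hzero : (F ∙ (1 : commutant (u - 1))) ⊓ I = ⊥ := eq_bot_iff.mpr fun x hx => by
    obtain ⟨b, rfl⟩ := Submodule.mem_span_singleton.mp hx.1
    by_cases hb : b = 0
    · simp [hb]
    · have := Submodule.smul_mem _ b⁻¹ hx.2.2
      rw [smul_smul, inv_mul_cancel₀ hb, one_smul] at this
      exact absurd this h1
  have hIf : Module.finrank F I = m - 1 := by
    have h3 := Submodule.finrank_sup_add_finrank_inf_eq (F ∙ (1 : commutant (u - 1))) I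
    rw [hone, hzero, finrank_bot, h.finrank_fixSpace h2, finrank_span_singleton
      (show (1 : commutant (u - 1)) ≠ 0 from fun h0 => h1 (h0 ▸ zero_mem _))] at h3
    omega
  have : Finite (commutant (u - 1)) := Subtype.finite
  have : Fintype h.fixSpace := Fintype.ofFinite _
  rw [Nat.card_congr e, Nat.card_eq_fintype_card, Fintype.card_subtype_compl, ← Nat.card_eq_fintype_card,
    ← Nat.card_eq_fintype_card (α := {x : h.fixSpace // x.1 ∈ nonUnits u v}),
    Module.natCard_eq_pow_finrank (K := F) (V := h.fixSpace), h.finrank_fixSpace h2,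
    show Nat.card {x : h.fixSpace // x.1 ∈ nonUnits u v} = Fintype.card F ^ (m - 1) from by
      rw [Nat.card_congr (Equiv.subtypeSubtypeEquivSubtypeInter (· ∈ h.fixSpace) (· ∈ nonUnits u v)),
        show Nat.card {x // x ∈ h.fixSpace ∧ x ∈ nonUnits u v} = Nat.card I from rfl,
        Module.natCard_eq_pow_finrank (K := F) (V := I), hIf, Nat.card_eq_fintype_card],
    Nat.card_eq_fintype_card]
  have := h.one_le
  conv_lhs => rw [show m = m - 1 + 1 by omega, pow_succ]
  rw [Nat.add_sub_cancel, Nat.mul_sub, mul_one]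

theorem IsRegUnip.exists_norm_facts (h : IsRegUnip u) (h2 : (2 : F) ≠ 0) [Fintype F] {c : F} (hc : ¬ IsSquare c) :
    Nat.card {x : commutant (u - 1) // h.sigma x * x = 1} = 2 * Fintype.card F ^ m ∧
      ∀ s : commutant (u - 1), IsUnit s → h.sigma s = s →
        ∃ y, IsUnit y ∧ (h.sigma y * y = s ∨ c • (h.sigma y * y) = s) := by
  classical
  letI := h.commRing
  have hc0 : c ≠ 0 := fun h0 => hc ⟨0, by rw [h0, mul_zero]⟩
  let N : (commutant (u - 1))ˣ →* (commutant (u - 1))ˣ := Units.map h.sigmaHom * MonoidHom.id _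
  have hN : ∀ x, (N x).1 = h.sigma x.1 * x.1 := fun x => rfl
  have hNle : N.range ≤ h.fixUnits := by
    rintro _ ⟨x, rfl⟩
    rw [h.mem_fixUnits, hN, h.sigma_mul, h.sigma_sigma, mul_comm]
  set sq := (N.comp h.fixUnits.subtype).range with hsq
  have hsqle : sq ≤ N.range := by rintro _ ⟨x, rfl⟩; exact ⟨x.1, rfl⟩
  -- kernel of squaring on fixed units
  have hker : Nat.card (N.comp h.fixUnits.subtype).ker = 2 := by
    have hm1 : (-1 : (commutant (u - 1))ˣ) ∈ h.fixUnits := h.mem_fixUnits.mpr (by
      rw [Units.val_neg, Units.val_one, map_neg, h.sigma_one])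
    have hne : (1 : (commutant (u - 1))ˣ) ≠ -1 := fun he => by
      have h3 : (1 : commutant (u - 1)) = -1 := congrArg Units.val he
      have h4 : (2 : F) • (1 : commutant (u - 1)) = 0 := by rw [two_smul]; nth_rewrite 2 [h3]; exact add_neg_cancel _
      rcases smul_eq_zero.mp h4 with h5 | h5
      · exact h2 h5
      · obtain ⟨v, hv⟩ := h.reg.exists_cyclic
        exact (h.isUnit_iff hv 1).mp isUnit_one (h5 ▸ zero_mem _)
    rw [Nat.card_eq_two_iff]
    refine ⟨1, ⟨⟨-1, hm1⟩, ?_⟩, fun he => hne (congrArg (fun z => z.1.1) he), Set.eq_univ_of_forall fun x => ?_⟩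
    · rw [MonoidHom.mem_ker]
      refine Units.ext ?_
      show h.sigma ((-1 : (commutant (u - 1))ˣ) : commutant (u - 1)) * _ = 1
      rw [h.mem_fixUnits.mp hm1]
      simp
    · have hx : h.sigma x.1.1.1 * x.1.1.1 = 1 := congrArg Units.val (MonoidHom.mem_ker.mp x.2)
      rw [h.mem_fixUnits.mp x.1.2] at hx
      rcases h.isUnit_or h2 x.1.1.1 with hu | hu
      · right
        refine Set.mem_singleton_iff.mpr (Subtype.ext (Subtype.ext (Units.ext ?_)))
        show x.1.1.1 = -1
        refine eq_neg_of_add_eq_zero_left (hu.mul_left_cancel ?_)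
        linear_combination hx
      · left
        refine Subtype.ext (Subtype.ext (Units.ext ?_))
        show x.1.1.1 = 1
        refine sub_eq_zero.mp (hu.mul_left_cancel ?_)
        linear_combination hx
  have hP : Nat.card h.fixUnits = 2 * Nat.card sq := by
    rw [hsq, Subgroup.card_eq_card_quotient_mul_card_subgroup (N.comp h.fixUnits.subtype).ker, hker,
      Nat.card_congr (QuotientGroup.quotientKerEquivRange (N.comp h.fixUnits.subtype)).toEquiv, mul_comm]
  -- the scalar `c` is a fixed unit, not a norm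
  let cu : (commutant (u - 1))ˣ := Units.map (algebraMap F (commutant (u - 1))).toMonoidHom (Units.mk0 c hc0)
  have hcu : cu.1 = c • 1 := Algebra.algebraMap_eq_smul_one c
  have hcuP : cu ∈ h.fixUnits := h.mem_fixUnits.mpr (by rw [hcu, map_smul, h.sigma_one])
  have hcuN : cu ∉ N.range := fun ⟨y, hy⟩ => h.smul_one_ne_norm hc y.1 (by
    rw [← hN, hy, hcu])
  have heq : sq = N.range := by
    refine le_antisymm hsqle ?_
    have hd1 := Subgroup.card_dvd_of_le hsqle
    have hd2 := Subgroup.card_dvd_of_le hNle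
    obtain ⟨a, ha⟩ := hd1
    obtain ⟨b, hb⟩ := hd2
    have hab : a * b = 2 := by
      have hpos : 0 < Nat.card sq := Nat.card_pos
      have : Nat.card sq * (a * b) = Nat.card sq * 2 := by rw [← mul_assoc, ← ha, ← hb, hP, mul_comm]
      exact Nat.eq_of_mul_eq_mul_left hpos this
    have hb1 : b ≠ 1 := fun h1 => hcuN (by
      have := Subgroup.eq_of_le_of_card_ge hNle (by rw [hb, h1, mul_one])
      rw [this]; exact hcuP)
    have : a = 1 := by
      rcases (Nat.prime_two.eq_one_or_self_of_dvd a ⟨b, hab.symm⟩) with h1 | h1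
      · exact h1
      · subst h1
        exact absurd (by omega : b = 1) hb1
    exact (Subgroup.eq_of_le_of_card_ge hsqle (by rw [ha, this, mul_one])).ge
  refine ⟨?_, fun s hs hsσ => ?_⟩
  · have e : {x : commutant (u - 1) // h.sigma x * x = 1} ≃ N.ker :=
      { toFun := fun x => ⟨⟨x.1, h.sigma x.1, by rw [mul_comm]; exact x.2, x.2⟩, Units.ext x.2⟩
        invFun := fun g => ⟨g.1.1, congrArg Units.val g.2⟩
        left_inv := fun x => rfl
        right_inv := fun g => Subtype.ext (Units.ext rfl) }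
    have h1 := Subgroup.card_eq_card_quotient_mul_card_subgroup N.ker
    rw [Nat.card_congr (QuotientGroup.quotientKerEquivRange N).toEquiv, ← heq, h.card_units] at h1
    rw [h.card_fixUnits h2] at hP
    rw [Nat.card_congr e]
    have hm := h.one_le
    have hq : 0 < Fintype.card F - 1 := by have := Fintype.one_lt_card (α := F); omega
    have hpos : 0 < Fintype.card F ^ (m - 1) * (Fintype.card F - 1) :=
      Nat.mul_pos (pow_pos (by omega) _) hq
    refine Nat.eq_of_mul_eq_mul_left hpos ?_
    calc Fintype.card F ^ (m - 1) * (Fintype.card F - 1) * Nat.card N.ker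
        = 2 * (Nat.card sq * Nat.card N.ker) := by rw [hP]; ring
      _ = _ := by
        rw [← h1, show 2 * m - 1 = (m - 1) + m by omega, pow_add]; ring
  · set su := hs.unit with hsu
    have hsuP : su ∈ h.fixUnits := h.mem_fixUnits.mpr hsσ
    by_cases hin : su ∈ N.range
    · obtain ⟨y, hy⟩ := hin
      exact ⟨y.1, y.isUnit, Or.inl (congrArg Units.val hy)⟩
    · have hidx : (N.range.subgroupOf h.fixUnits).index = 2 := by
        have h1 := Subgroup.card_mul_index (N.range.subgroupOf h.fixUnits)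
        rw [Nat.card_congr (Subgroup.subgroupOfEquivOfLe hNle).toEquiv, ← heq, hP] at h1
        rw [← heq]
        exact Nat.eq_of_mul_eq_mul_left Nat.card_pos (h1.trans (mul_comm _ _))
      have h3 : (⟨cu, hcuP⟩ : h.fixUnits)⁻¹ * ⟨su, hsuP⟩ ∈ N.range.subgroupOf h.fixUnits := by
        rw [Subgroup.mul_mem_iff_of_index_two hidx, Subgroup.inv_mem_iff]
        exact iff_of_false hcuN hin
      obtain ⟨y, hy⟩ := h3
      refine ⟨y.1, y.isUnit, Or.inr ?_⟩
      have h4 : cu * N y = su := by
        rw [show N y = cu⁻¹ * su from hy, mul_inv_cancel_left]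
      have h5 := congrArg Units.val h4
      rw [Units.val_mul, hN, hcu, smul_one_mul] at h5
      exact h5

end CfsgLib.SympUnip
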